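import Groth.Agent.W7Hull.IsoNear

/-!
Base change to an open of a morphism which is an isomorphism there.
-/

set_option autoImplicit false
set_option backward.isDefEq.respectTransparency false
set_option backward.isDefEq.respectTransparency.types false

universe u

open CategoryTheory CategoryTheory.Limits AlgebraicGeometry

namespace Groth.Agent.IsoNearBC

theorem main {S X Y : Scheme.{u}} [IsNoetherian S] (s : S) (g : X ⟶ S) (h : Y ⟶ S) (p : X ⟶ Y)
    (w : p ≫ h = g) [IsProper g] [IsProper h] [Flat g]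
    (hs : IsIso (pullback.map g (S.fromSpecResidueField s) h (S.fromSpecResidueField s) p (𝟙 _) (𝟙 _)
      ((Category.comp_id g).trans w.symm) ((Category.comp_id _).trans (Category.id_comp _).symm))) :
    ∃ U : S.Opens, s ∈ U ∧ IsIso (pullback.map g U.ι h U.ι p (𝟙 _) (𝟙 _)
      ((Category.comp_id g).trans w.symm) ((Category.comp_id _).trans (Category.id_comp _).symm)) := by
  haveI : IsIso (CohIII.fiberMapOver p g h w s) := hs
  obtain ⟨U, hsU, hU⟩ := Groth.Agent.W7Hull.exists_nhd_isIso_of_fibre p g h w s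
  refine ⟨U, hsU, ?_⟩
  subst w
  set m := pullback.map (p ≫ h) U.ι h U.ι p (𝟙 _) (𝟙 _) (Category.comp_id _)
    ((Category.comp_id _).trans (Category.id_comp _).symm) with hm
  have h1 : IsPullback (pullback.fst (p ≫ h) U.ι) m p (pullback.fst h U.ι) := by
    refine IsPullback.of_bot ?_ ?_ (IsPullback.of_hasPullback h U.ι)
    · have e : m ≫ pullback.snd h U.ι = pullback.snd (p ≫ h) U.ι := by simp [hm]
      rw [e]
      exact IsPullback.of_hasPullback (p ≫ h) U.ι
    · simp [hm]
  have e : (pullbackRestrictIsoRestrict h U).hom ≫ (h ⁻¹ᵁ U).ι = pullback.fst h U.ι :=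
    pullbackRestrictIsoRestrict_hom_ι _ _
  rw [← e] at h1
  have h2 : IsPullback (pullback.fst p (h ⁻¹ᵁ U).ι) (pullback.snd p (h ⁻¹ᵁ U).ι) p (h ⁻¹ᵁ U).ι :=
    IsPullback.of_hasPullback _ _
  haveI : IsIso (pullback.snd p (h ⁻¹ᵁ U).ι) := by
    have : pullback.snd p (h ⁻¹ᵁ U).ι = (pullbackRestrictIsoRestrict p (h ⁻¹ᵁ U)).hom ≫ p ∣_ (h ⁻¹ᵁ U) :=
      (pullbackRestrictIsoRestrict_hom_morphismRestrict p _).symm
    rw [this]
    infer_instance
  have h3 : IsPullback (pullback.fst (p ≫ h) U.ι) (m ≫ (pullbackRestrictIsoRestrict h U).hom) p (h ⁻¹ᵁ U).ι :=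
    h1.of_iso (Iso.refl _) (Iso.refl _) (pullbackRestrictIsoRestrict h U) (Iso.refl _) (by simp) (by simp) (by simp)
      (by simp)
  have h4 : IsIso (m ≫ (pullbackRestrictIsoRestrict h U).hom) := by
    rw [← h3.isoPullback_hom_snd]
    infer_instance
  exact IsIso.of_isIso_comp_right m (pullbackRestrictIsoRestrict h U).hom

end Groth.Agent.IsoNearBC
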